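import Groth.Agent.Etdl.H771.ConstSec
import Mathlib.GroupTheory.FiniteAbelian.Basic
import Mathlib.Algebra.Homology.ShortComplex.Ab

/-!
# Degree one classes with constant torsion coefficients are generated by images of `ℤ/n`-classes
-/

set_option autoImplicit false
universe w' w v u

open CategoryTheory CategoryTheory.Abelian CategoryTheory.Limits Opposite Groth.Agent.Etcore.ZU
open Groth.Agent.Etdl.H771.Gluing Groth.Agent.Etdl.H771.ConstSec

namespace Groth.Agent.Etdl.H771.Closure

/-- `ULift` of a homomorphism. -/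
def ul {A B : Type} [AddCommGroup A] [AddCommGroup B] (φ : A →+ B) :
    AddCommGrpCat.of (ULift.{w} A) ⟶ AddCommGrpCat.of (ULift.{w} B) :=
  AddCommGrpCat.ofHom (AddEquiv.ulift.symm.toAddMonoidHom.comp
    (φ.comp AddEquiv.ulift.toAddMonoidHom))

theorem ul_comp {A B D : Type} [AddCommGroup A] [AddCommGroup B] [AddCommGroup D] (φ : A →+ B)
    (ψ : B →+ D) : ul.{w} (ψ.comp φ) = ul φ ≫ ul ψ := rfl

theorem ul_id (A : Type) [AddCommGroup A] : ul.{w} (AddMonoidHom.id A) = 𝟙 _ := rfl

theorem ul_sum {A B ι : Type} [AddCommGroup A] [AddCommGroup B] (s : Finset ι) (φ : ι → (A →+ B)) :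
    ul.{w} (∑ i ∈ s, φ i) = ∑ i ∈ s, ul (φ i) := by
  classical
  induction s using Finset.induction_on with
  | empty => rfl
  | insert a s ha ih =>
    rw [Finset.sum_insert ha, Finset.sum_insert ha, ← ih]
    rfl

/-- The exact sequence of a subgroup. -/
def sc {G : Type} [AddCommGroup G] (G' : AddSubgroup G) : ShortComplex AddCommGrpCat.{w} :=
  ShortComplex.mk (ul G'.subtype) (ul (QuotientAddGroup.mk' G')) (by
    ext x
    exact (QuotientAddGroup.eq_zero_iff _).2 x.down.2)

theorem sc_shortExact {G : Type} [AddCommGroup G] (G' : AddSubgroup G) :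
    (sc.{w} G').ShortExact where
  exact := by
    rw [ShortComplex.ab_exact_iff]
    intro x hx
    have h1 : (QuotientAddGroup.mk' G') x.down = 0 := congrArg ULift.down hx
    exact ⟨ULift.up ⟨x.down, (QuotientAddGroup.eq_zero_iff _).1 h1⟩, rfl⟩
  mono_f := by
    rw [AddCommGrpCat.mono_iff_injective]
    intro x y hxy
    exact ULift.down_injective (Subtype.ext (congrArg ULift.down hxy))
  epi_g := by
    rw [AddCommGrpCat.epi_iff_surjective]
    intro y
    obtain ⟨z, hz⟩ := QuotientAddGroup.mk_surjective y.down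
    exact ⟨ULift.up z, ULift.down_injective hz⟩

/-- Decomposition of the identity of a finite abelian group. -/
theorem exists_decomp (G : Type) [AddCommGroup G] [Finite G] (P : ℕ → Prop)
    (hP : ∀ m n, m ∣ n → P n → P m) (hG : ∀ g : G, ∃ n : ℕ, P n ∧ n • g = 0) :
    ∃ (ι : Type) (_ : Fintype ι) (n : ι → ℕ) (a : ∀ i, G →+ ZMod (n i)) (b : ∀ i, ZMod (n i) →+ G),
      (∀ i, P (n i)) ∧ ∑ i, (b i).comp (a i) = AddMonoidHom.id G := by
  classical
  obtain ⟨ι, hι, p, -, r, ⟨E⟩⟩ := AddCommGroup.equiv_directSum_zmod_of_finite G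
  refine ⟨ι, hι, fun i => p i ^ r i, fun i => (DFinsupp.evalAddMonoidHom i).comp E.toAddMonoidHom,
    fun i => E.symm.toAddMonoidHom.comp (DirectSum.of (fun i => ZMod (p i ^ r i)) i), ?_, ?_⟩
  · intro i
    obtain ⟨n, hn, h⟩ := hG (E.symm (DirectSum.of (fun i => ZMod (p i ^ r i)) i 1))
    refine hP _ _ ?_ hn
    rw [← ZMod.natCast_eq_zero_iff]
    rw [← map_nsmul, AddEquiv.map_eq_zero_iff] at h
    have h2 := congrArg (fun x => x i) h
    rw [← map_nsmul] at h2
    have h3 : (DirectSum.of (fun i => ZMod (p i ^ r i)) i) (n • 1) i = n • 1 :=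
      DirectSum.of_eq_same _ _
    rw [nsmul_one] at h2 h3
    exact h3.symm.trans h2
  · ext g
    apply E.injective
    rw [AddMonoidHom.finsetSum_apply, map_sum]
    refine Eq.trans ?_ (DirectSum.sum_univ_of (E g))
    refine Finset.sum_congr rfl fun i _ => ?_
    exact E.apply_symm_apply _

variable {C : Type u} [Category.{v} C] {J : GrothendieckTopology C}
  [HasSheafify J AddCommGrpCat.{max w v}]

theorem sc_map_shortExact {G : Type} [AddCommGroup G] (G' : AddSubgroup G) :
    ((sc.{max w v} G').map (constantSheaf J AddCommGrpCat.{max w v})).ShortExact := by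
  have h1 : PreservesFiniteLimits (constantSheaf J AddCommGrpCat.{max w v}) := by
    have h3 : PreservesFiniteLimits (Functor.const Cᵒᵖ : AddCommGrpCat.{max w v} ⥤ _) :=
      inferInstance
    have h4 : PreservesFiniteLimits (presheafToSheaf J AddCommGrpCat.{max w v}) := inferInstance
    exact comp_preservesFiniteLimits _ _
  have h2 : PreservesFiniteColimits (constantSheaf J AddCommGrpCat.{max w v}) := by
    delta constantSheaf
    infer_instance
  exact (sc_shortExact G').map_of_exact _

variable [J.WEqualsLocallyBijective AddCommGrpCat.{max w v}]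
  [HasExt.{w'} (Sheaf J AddCommGrpCat.{max w v})]
  [EnoughInjectives (Sheaf J AddCommGrpCat.{max w v})]

/-- The main statement over a site. -/
theorem mem_closure {U : C} (hU : QC2 J U) (P : ℕ → Prop) (hP : ∀ m n, m ∣ n → P n → P m)
    (h0 : ¬ P 0) (G : Type) [AddCommGroup G] (hG : ∀ g : G, ∃ n : ℕ, P n ∧ n • g = 0)
    (e : Ext.{w'} (Z.{w} J U) ((constantSheaf J AddCommGrpCat.{max w v}).obj
      (AddCommGrpCat.of (ULift.{max w v} G))) 1) :
    e ∈ AddSubgroup.closure {e' | ∃ (n : ℕ) (_ : P n) (φ : ZMod n →+ G)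
      (x : Ext.{w'} (Z.{w} J U) ((constantSheaf J AddCommGrpCat.{max w v}).obj
        (AddCommGrpCat.of (ULift.{max w v} (ZMod n)))) 1),
        e' = x.comp (Ext.mk₀ ((constantSheaf J AddCommGrpCat.{max w v}).map (ul.{max w v} φ)))
          (add_zero 1)} := by
  obtain ⟨t, ht, hkill⟩ := exists_finset_ext hU e
  let G' : AddSubgroup G := AddSubgroup.closure (ULift.down '' t)
  have h1 := sc_map_shortExact (J := J) G'
  have h2 : e.comp (Ext.mk₀ ((constantSheaf J AddCommGrpCat.{max w v}).map
      (ul.{max w v} (QuotientAddGroup.mk' G')))) (add_zero 1) = 0 := by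
    apply hkill
    intro a ha
    exact congrArg ULift.up ((QuotientAddGroup.eq_zero_iff _).2
      (AddSubgroup.subset_closure ⟨a, ha, rfl⟩))
  obtain ⟨e₁, he₁⟩ : ∃ e₁ : Ext.{w'} (Z.{w} J U) ((constantSheaf J AddCommGrpCat.{max w v}).obj
      (AddCommGrpCat.of (ULift.{max w v} G'))) 1,
      e₁.comp (Ext.mk₀ ((constantSheaf J AddCommGrpCat.{max w v}).map
        (ul.{max w v} G'.subtype))) (add_zero 1) = e :=
    Ext.covariant_sequence_exact₂ _ h1 e h2
  -- `G'` is finite
  have hfg : AddGroup.FG G' := by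
    rw [AddGroup.fg_iff_addSubgroup_fg]
    exact ⟨(ht.image _).toFinset, by rw [Set.Finite.coe_toFinset]⟩
  have htors : IsAddTorsion G' := by
    intro g
    obtain ⟨n, hn, h⟩ := hG g
    rw [isOfFinAddOrder_iff_nsmul_eq_zero]
    refine ⟨n, Nat.pos_of_ne_zero ?_, Subtype.ext h⟩
    rintro rfl
    exact h0 hn
  have hfin : Finite G' := AddCommGroup.finite_of_fg_isAddTorsion _ htors
  obtain ⟨ι, _, n, a, b, hn, hab⟩ := exists_decomp G' P hP fun g => by
    obtain ⟨n, hn, h⟩ := hG g
    exact ⟨n, hn, Subtype.ext h⟩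
  have h3 : (constantSheaf J AddCommGrpCat.{max w v}).map (ul.{max w v} G'.subtype) =
      ∑ i, (constantSheaf J AddCommGrpCat.{max w v}).map (ul.{max w v} (a i)) ≫
        (constantSheaf J AddCommGrpCat.{max w v}).map (ul.{max w v} (G'.subtype.comp (b i))) := by
    have h4 : G'.subtype = ∑ i, (G'.subtype.comp (b i)).comp (a i) := by
      conv_lhs => rw [← AddMonoidHom.comp_id G'.subtype, ← hab]
      ext g
      simp [AddMonoidHom.finsetSum_apply]
    rw [h4, ul_sum, Functor.map_sum]
    refine Finset.sum_congr rfl fun i _ => ?_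
    rw [← Functor.map_comp, ← ul_comp, ← h4]
  have h5 : e = ∑ i, (e₁.comp (Ext.mk₀ ((constantSheaf J AddCommGrpCat.{max w v}).map
      (ul.{max w v} (a i)))) (add_zero 1)).comp (Ext.mk₀ ((constantSheaf J AddCommGrpCat.{max w v}).map
        (ul.{max w v} (G'.subtype.comp (b i))))) (add_zero 1) := by
    rw [← he₁, h3, Ext.mk₀_sum, Ext.comp_sum]
    refine Finset.sum_congr rfl fun i _ => ?_
    rw [← Ext.mk₀_comp_mk₀, ← Ext.comp_assoc_of_third_deg_zero]
  rw [h5]
  exact sum_mem fun i _ => AddSubgroup.subset_closure ⟨n i, hn i, _, _, rfl⟩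

end Groth.Agent.Etdl.H771.Closure
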