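import Groth.Agent.Etdl.H771.Gluing
import Mathlib.CategoryTheory.Sites.ConstantSheaf
import Mathlib.GroupTheory.QuotientGroup.Basic

/-!
# Degree one classes with constant coefficients on quasi-compact objects come from finitely generated subgroups
-/

set_option autoImplicit false
universe w' w v u

open CategoryTheory CategoryTheory.Abelian CategoryTheory.Limits Opposite Groth.Agent.Etcore.ZU
open Groth.Agent.Etdl.H771.Gluing

namespace Groth.Agent.Etdl.H771.ConstSec

variable {C : Type u} [Category.{v} C] (J : GrothendieckTopology C)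

/-- Every covering has a finite refinement. -/
def QC (T : C) : Prop :=
  ∀ S ∈ J T, ∃ (n : ℕ) (V : Fin n → C) (f : ∀ i, V i ⟶ T), (∀ i, S (f i)) ∧ Sieve.ofArrows V f ∈ J T

/-- Every covering has a finite refinement with quasi-compact overlaps. -/
def QC2 (T : C) : Prop :=
  ∀ S ∈ J T, ∃ (n : ℕ) (V : Fin n → C) (f : ∀ i, V i ⟶ T), (∀ i, S (f i)) ∧
    Sieve.ofArrows V f ∈ J T ∧ ∀ i j, ∃ (P : C) (p : P ⟶ V i) (q : P ⟶ V j),
      p ≫ f i = q ≫ f j ∧ QC J P ∧ ∀ (W : C) (p' : W ⟶ V i) (q' : W ⟶ V j), p' ≫ f i = q' ≫ f j →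
        ∃ r : W ⟶ P, r ≫ p = p' ∧ r ≫ q = q'

variable {J} [HasSheafify J AddCommGrpCat.{w}]

/-- The constant section. -/
noncomputable def cst (A : AddCommGrpCat.{w}) (T : C) (a : A) :
    ((constantSheaf J AddCommGrpCat.{w}).obj A).obj.obj (op T) :=
  (toSheafify J ((Functor.const Cᵒᵖ).obj A)).app (op T) a

theorem map_cst {A : AddCommGrpCat.{w}} {T V : C} (f : V ⟶ T) (a : A) :
    ((constantSheaf J AddCommGrpCat.{w}).obj A).obj.map f.op (cst A T a) = cst A V a :=
  (ConcreteCategory.congr_hom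
    ((toSheafify J ((Functor.const Cᵒᵖ).obj A)).naturality f.op) a).symm

theorem app_cst {A B : AddCommGrpCat.{w}} (φ : A ⟶ B) (T : C) (a : A) :
    ((constantSheaf J AddCommGrpCat.{w}).map φ).hom.app (op T) (cst A T a) = cst B T (φ a) := by
  have h := congr_arg (fun α => α.app (op T))
    (toSheafify_naturality J ((Functor.const Cᵒᵖ).map φ))
  exact (ConcreteCategory.congr_hom h a).symm

theorem cst_zero (A : AddCommGrpCat.{w}) (T : C) : cst (J := J) A T 0 = 0 :=
  map_zero ((toSheafify J ((Functor.const Cᵒᵖ).obj A)).app (op T)).hom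

variable [J.WEqualsLocallyBijective AddCommGrpCat.{w}]

theorem exists_local_cst {A : AddCommGrpCat.{w}} {T : C}
    (s : ((constantSheaf J AddCommGrpCat.{w}).obj A).obj.obj (op T)) :
    ∃ S ∈ J T, ∀ ⦃V : C⦄ (f : V ⟶ T), S f →
      ∃ a : A, ((constantSheaf J AddCommGrpCat.{w}).obj A).obj.map f.op s = cst A V a := by
  refine ⟨_, Presheaf.imageSieve_mem J (toSheafify J ((Functor.const Cᵒᵖ).obj A)) s,
    fun V f hf => ?_⟩
  obtain ⟨a, ha⟩ := hf
  exact ⟨a, ha.symm⟩

/-- A section over a quasi-compact object involves only finitely many values. -/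
theorem exists_finset_sec {A : AddCommGrpCat.{w}} {T : C} (hT : QC J T)
    (s : ((constantSheaf J AddCommGrpCat.{w}).obj A).obj.obj (op T)) :
    ∃ t : Set A, t.Finite ∧ ∀ (B : AddCommGrpCat.{w}) (φ : A ⟶ B), (∀ a ∈ t, φ a = 0) →
      ((constantSheaf J AddCommGrpCat.{w}).map φ).hom.app (op T) s = 0 := by
  obtain ⟨S, hS, h⟩ := exists_local_cst s
  obtain ⟨n, V, f, hf, hV⟩ := hT S hS
  choose a ha using fun i => h (f i) (hf i)
  refine ⟨Set.range a, Set.finite_range a, fun B φ hφ => ?_⟩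
  refine sep_family _ V f hV _ _ fun i => ?_
  rw [← app_map, ha, app_cst, hφ _ ⟨i, rfl⟩, cst_zero, map_zero]

end Groth.Agent.Etdl.H771.ConstSec

namespace Groth.Agent.Etdl.H771.ConstSec

variable {C : Type u} [Category.{v} C] {J : GrothendieckTopology C}
  [HasSheafify J AddCommGrpCat.{max w v}] [J.WEqualsLocallyBijective AddCommGrpCat.{max w v}]
  [HasExt.{w'} (Sheaf J AddCommGrpCat.{max w v})]
  [EnoughInjectives (Sheaf J AddCommGrpCat.{max w v})]

/-- A class of degree one over a quasi-compact object involves only finitely many values. -/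
theorem exists_finset_ext {A : AddCommGrpCat.{max w v}} {U : C} (hU : QC2 J U)
    (e : Ext.{w'} (Z.{w} J U) ((constantSheaf J AddCommGrpCat.{max w v}).obj A) 1) :
    ∃ t : Set A, t.Finite ∧ ∀ (B : AddCommGrpCat.{max w v}) (φ : A ⟶ B), (∀ a ∈ t, φ a = 0) →
      e.comp (Ext.mk₀ ((constantSheaf J AddCommGrpCat.{max w v}).map φ)) (add_zero 1) = 0 := by
  let F := (constantSheaf J AddCommGrpCat.{max w v}).obj A
  let S : ShortComplex (Sheaf J AddCommGrpCat.{max w v}) :=
    ShortComplex.mk (Injective.ι F) (Limits.cokernel.π (Injective.ι F))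
      (Limits.cokernel.condition _)
  have hS : S.ShortExact := { exact := ShortComplex.exact_cokernel _ }
  obtain ⟨x, hx⟩ := Ext.covariant_sequence_exact₁ _ hS e (Ext.eq_zero_of_injective _)
    (n₀ := 0) (by rfl)
  obtain ⟨g, rfl⟩ := Ext.addEquiv₀.symm.surjective x
  rw [Ext.addEquiv₀_symm_apply] at hx
  have := hS.epi_g
  obtain ⟨R, hR, hR'⟩ := exists_cover_factor S.g g
  obtain ⟨n, V, f, hf, hV, hP⟩ := hU R hR
  choose b hb using fun i => hR' (f i) (hf i)
  choose P p q hpq hPQC hPuniv using hP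
  have hbsec : ∀ i, S.g.hom.app _ ((b i).hom.app _ (gen.{w} J (V i))) =
      S.X₃.obj.map (f i).op (g.hom.app (op U) (gen.{w} J U)) := by
    intro i
    rw [← comp_app, ← hb i, comp_app, Zmap_gen, app_map]
  have hc : ∀ i j, ∃ c : S.X₁.obj.obj (op (P i j)), S.f.hom.app _ c =
      S.X₂.obj.map (p i j).op ((b i).hom.app _ (gen.{w} J (V i))) -
        S.X₂.obj.map (q i j).op ((b j).hom.app _ (gen.{w} J (V j))) := by
    intro i j
    apply exists_of_app_eq_zero hS
    rw [map_sub, app_map, app_map, hbsec, hbsec, map_map, map_map, hpq, sub_self]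
  choose c hc using hc
  choose t ht hkill using fun i j => exists_finset_sec (hPQC i j) (c i j)
  refine ⟨⋃ i, ⋃ j, t i j, Set.finite_iUnion fun i => Set.finite_iUnion fun j => ht i j,
    fun B φ hφ => ?_⟩
  rw [← hx]
  refine extClass_comp_eq_zero hS g _ V f hV (fun i => (b i).hom.app _ (gen.{w} J (V i))) hbsec
    fun i j W p' q' hpq' d hd => ?_
  obtain ⟨r, rfl, rfl⟩ := hPuniv i j W p' q' hpq'
  have hd' : d = S.X₁.obj.map r.op (c i j) := by
    have := hS.mono_f
    have hinj : Function.Injective (S.f.hom.app (op W)) := by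
      intro x y hxy
      have h1 : (isGen_gen.{w} (J := J) W).desc x ≫ S.f =
          (isGen_gen.{w} (J := J) W).desc y ≫ S.f := by
        rw [(isGen_gen W).desc_comp, (isGen_gen W).desc_comp, hxy]
      rw [cancel_mono] at h1
      rw [← (isGen_gen.{w} (J := J) W).desc_app x, h1, (isGen_gen W).desc_app]
    apply hinj
    rw [hd, app_map, hc, map_sub, map_map, map_map]
  rw [hd', app_map]
  have h2 : ((constantSheaf J AddCommGrpCat.{max w v}).map φ).hom.app (op (P i j)) (c i j) = 0 :=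
    hkill i j B φ fun a ha => hφ a (Set.mem_iUnion.2 ⟨i, Set.mem_iUnion.2 ⟨j, ha⟩⟩)
  rw [h2, map_zero]

end Groth.Agent.Etdl.H771.ConstSec
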