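import Groth.Agent.Etdl.H771.ConstSec
import Groth.Agent.Etrest.BigEtDescent
import Mathlib.AlgebraicGeometry.Morphisms.QuasiSeparated

/-!
# Finite refinements of fppf coverings
-/

set_option autoImplicit false
universe u

open CategoryTheory CategoryTheory.Limits AlgebraicGeometry Opposite
open Groth.Agent.Etdl.H771.ConstSec

namespace Groth.Agent.Etdl.H771.Geom

variable {S : Scheme.{u}}

/-- Local refinement by an affine scheme. -/
theorem exists_affine {T : Over S} {R : Sieve T} (hR : R ∈ EtFppf.J S T) (x : T.left) :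
    ∃ (Y : Over S) (g : Y ⟶ T), R g ∧ Flat g.left ∧ LocallyOfFinitePresentation g.left ∧
      IsAffine Y.left ∧ x ∈ Set.range g.left := by
  obtain ⟨Y, g, hg, h1, h2, y, rfl⟩ := Etrest.BigEtSite.mem_J_iff.1 hR x
  obtain ⟨W, hW, hyW, -⟩ := exists_isAffineOpen_mem_and_subset (x := y) (U := ⊤) (by trivial)
  let Y' : Over S := Over.mk (W.ι ≫ Y.hom)
  let i : Y' ⟶ Y := Over.homMk W.ι rfl
  refine ⟨Y', i ≫ g, R.downward_closed hg i, ?_, ?_, ?_, ?_⟩
  · exact inferInstanceAs (Flat (W.ι ≫ g.left))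
  · exact inferInstanceAs (LocallyOfFinitePresentation (W.ι ≫ g.left))
  · exact hW
  · exact ⟨(⟨y, hyW⟩ : W), rfl⟩

/-- Finite refinement by affine schemes. -/
theorem exists_finite_affine (T : Over S) [CompactSpace T.left] {R : Sieve T}
    (hR : R ∈ EtFppf.J S T) :
    ∃ (n : ℕ) (V : Fin n → Over S) (f : ∀ i, V i ⟶ T), (∀ i, R (f i)) ∧
      (∀ i, IsAffine (V i).left) ∧ Sieve.ofArrows V f ∈ EtFppf.J S T := by
  choose Y g h1 h2 h3 h4 h5 using exists_affine hR
  obtain ⟨t, ht⟩ := isCompact_univ.elim_finite_subcover (fun x => Set.range (g x).left)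
    (fun x => (g x).left.isOpenMap.isOpen_range) (fun x _ => Set.mem_iUnion.2 ⟨x, h5 x⟩)
  refine ⟨t.card, fun i => Y (t.equivFin.symm i), fun i => g (t.equivFin.symm i),
    fun i => h1 _, fun i => h4 _, ?_⟩
  rw [Etrest.BigEtSite.mem_J_iff]
  intro x
  obtain ⟨y, hy⟩ := Set.mem_iUnion.1 (ht (Set.mem_univ x))
  obtain ⟨hyt, hy⟩ := Set.mem_iUnion.1 hy
  have hmem : (Sieve.ofArrows (fun i => Y (t.equivFin.symm i)) (fun i => g (t.equivFin.symm i)))
      (g (t.equivFin.symm (t.equivFin ⟨y, hyt⟩))) := Sieve.ofArrows_mk _ _ _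
  have he : ((t.equivFin.symm (t.equivFin ⟨y, hyt⟩) : t) : T.left) = y := by
    rw [Equiv.symm_apply_apply]
  refine ⟨_, _, hmem, h2 _, h3 _, ?_⟩
  rw [he]
  exact hy

theorem qc_of_compactSpace (T : Over S) [CompactSpace T.left] : QC (EtFppf.J S) T := by
  intro R hR
  obtain ⟨n, V, f, h1, -, h2⟩ := exists_finite_affine T hR
  exact ⟨n, V, f, h1, h2⟩

theorem qc2_of_qcqs [IsAffine S] {X : Scheme.{u}} (f : X ⟶ S) [QuasiCompact f] [QuasiSeparated f] :
    QC2 (EtFppf.J S) (Over.mk f) := by
  intro R hR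
  have : CompactSpace X := QuasiCompact.compactSpace_of_compactSpace f
  have : CompactSpace (Over.mk f).left := this
  obtain ⟨n, V, g, h1, h2, h3⟩ := exists_finite_affine (Over.mk f) hR
  refine ⟨n, V, g, h1, h3, fun i j => ?_⟩
  have hqc : QuasiCompact (g i).left := by
    have h4 : QuasiCompact ((g i).left ≫ f) := by
      have h5 : (g i).left ≫ f = (V i).hom := Over.w (g i)
      rw [h5]
      infer_instance
    exact QuasiCompact.of_comp _ f
  let P : Over S := Over.mk (pullback.fst (g i).left (g j).left ≫ (V i).hom)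
  let p : P ⟶ V i := Over.homMk (pullback.fst (g i).left (g j).left) rfl
  let q : P ⟶ V j := Over.homMk (pullback.snd (g i).left (g j).left) (by
    rw [← Over.w (g j), ← Category.assoc, ← pullback.condition, Category.assoc, Over.w (g i)]
    rfl)
  have hP : CompactSpace P.left :=
    QuasiCompact.compactSpace_of_compactSpace (pullback.snd (g i).left (g j).left)
  refine ⟨P, p, q, ?_, qc_of_compactSpace P, fun W p' q' h => ?_⟩
  · ext
    exact congrArg (fun k => k) pullback.condition
  · refine ⟨Over.homMk (pullback.lift p'.left q'.left (congrArg (fun k => k.left) h)) ?_, ?_, ?_⟩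
    · change pullback.lift _ _ _ ≫ (pullback.fst (g i).left (g j).left ≫ (V i).hom) = _
      rw [pullback.lift_fst_assoc, Over.w]
    · ext
      exact pullback.lift_fst _ _ _
    · ext
      exact pullback.lift_snd _ _ _

end Groth.Agent.Etdl.H771.Geom
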