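import Groth.Agent.Etdl.H771.Closure
import Groth.Agent.Etdl.H771.Geom
import Groth.Prelude.Def_EtDlF
import Groth.Prelude.Def_EtBase
import Mathlib.FieldTheory.IsAlgClosed.Basic

/-!
# S3733-E: classes in `Ext¹(Z[X], G)`, `G` torsion, are generated by images of `ℤ/n`-classes
-/

set_option autoImplicit false
universe u

open CategoryTheory CategoryTheory.Limits AlgebraicGeometry Opposite

namespace Groth.Agent.Etdl.H771.EGen

theorem E_gen (k : Type u) [Field k] [IsAlgClosed k] {X : Scheme.{u}}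
    (f : X ⟶ Spec (CommRingCat.of k)) [QuasiCompact f] [QuasiSeparated f]
    (G : Type) [AddCommGroup G] (hG : ∀ g : G, ∃ n : ℕ, (n : k) ≠ 0 ∧ n • g = 0) 
    (e : Abelian.Ext.{u + 1} (Groth.Agent.Etcore.ZU.Z.{u+1} (EtFppf.J (Spec (CommRingCat.of k))) (Over.mk f))
      (EtDl.constF (Spec (CommRingCat.of k)) G) 1) :
    e ∈ AddSubgroup.closure {e' | ∃ (n : ℕ) (_ : (n : k) ≠ 0) (φ : ZMod n →+ G) 
      (x : Abelian.Ext.{u + 1} (Groth.Agent.Etcore.ZU.Z.{u+1} (EtFppf.J (Spec (CommRingCat.of k))) (Over.mk f))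
        (EtDl.constF (Spec (CommRingCat.of k)) (ZMod n)) 1),
        e' = x.comp (Abelian.Ext.mk₀ ((constantSheaf (EtFppf.J (Spec (CommRingCat.of k))) AddCommGrpCat.{u + 1}).map
          (AddCommGrpCat.ofHom (AddEquiv.ulift.symm.toAddMonoidHom.comp (φ.comp AddEquiv.ulift.toAddMonoidHom))))) (add_zero 1)} := by
  refine Closure.mem_closure.{u + 1, u + 1, u, u + 1} (Geom.qc2_of_qcqs f) (fun n => (n : k) ≠ 0)
    ?_ ?_ G hG e
  · rintro m n ⟨d, rfl⟩ hn hm
    apply hn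
    rw [Nat.cast_mul, hm, zero_mul]
  · simp

end Groth.Agent.Etdl.H771.EGen
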