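import Groth.Agent.Etcore.ZU

/-!
# Gluing local lifts: a criterion for the push-forward of a degree one class to vanish

Let `0 ⟶ F ⟶ I ⟶ Q ⟶ 0` be exact, `q ∈ Q(U)`, `b i ∈ I(V i)` lifts of `q` on a covering family `V i ⟶ U`.
If `α : F ⟶ F'` kills the differences of the `b i` then it kills the class of `q` in `Ext¹(Z_U, F)`.
-/

set_option autoImplicit false
universe w' w v u

open CategoryTheory CategoryTheory.Abelian CategoryTheory.Limits Opposite Groth.Agent.Etcore.ZU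

namespace Groth.Agent.Etdl.H771.Gluing

variable {C : Type u} [Category.{v} C] {J : GrothendieckTopology C}

section Sections

variable (F : Sheaf J AddCommGrpCat.{w}) {U : C}

/-- The underlying sheaf of sets. -/
theorem isSheaf_forget : Presieve.IsSheaf J (F.obj ⋙ forget AddCommGrpCat.{w}) :=
  (isSheaf_iff_isSheaf_of_type _ _).1
    (Presheaf.isSheaf_comp_of_isSheaf J F.obj (forget AddCommGrpCat.{w}) F.property)

/-- Separatedness. -/
theorem sep {S : Sieve U} (hS : S ∈ J U) (s t : F.obj.obj (op U))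
    (h : ∀ ⦃V : C⦄ (f : V ⟶ U), S f → F.obj.map f.op s = F.obj.map f.op t) : s = t :=
  ((isSheaf_forget F).isSeparated _ hS).ext h

/-- Restriction is functorial. -/
theorem map_map {V W : C} (f : V ⟶ U) (g : W ⟶ V) (s : F.obj.obj (op U)) :
    F.obj.map g.op (F.obj.map f.op s) = F.obj.map (g ≫ f).op s := by
  rw [op_comp, Functor.map_comp]
  rfl

/-- Separatedness for a family. -/
theorem sep_family {ι : Type*} (V : ι → C) (f : ∀ i, V i ⟶ U) (hS : Sieve.ofArrows V f ∈ J U)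
    (s t : F.obj.obj (op U)) (h : ∀ i, F.obj.map (f i).op s = F.obj.map (f i).op t) : s = t := by
  refine sep F hS s t fun W g hg => ?_
  obtain ⟨Y, a, b, ⟨i⟩, rfl⟩ := hg
  rw [← map_map, ← map_map, h]

/-- Gluing for a family. -/
theorem glue_family {ι : Type*} (V : ι → C) (f : ∀ i, V i ⟶ U) (hS : Sieve.ofArrows V f ∈ J U)
    (b : ∀ i, F.obj.obj (op (V i)))
    (h : ∀ (i j : ι) (W : C) (p : W ⟶ V i) (q : W ⟶ V j), p ≫ f i = q ≫ f j →
      F.obj.map p.op (b i) = F.obj.map q.op (b j)) :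
    ∃ s : F.obj.obj (op U), ∀ i, F.obj.map (f i).op s = b i := by
  have h1 : (Presieve.ofArrows V f).IsSheafFor (F.obj ⋙ forget AddCommGrpCat.{w}) := by
    rw [Presieve.isSheafFor_iff_generate]
    exact isSheaf_forget F _ hS
  rw [Presieve.isSheafFor_arrows_iff] at h1
  obtain ⟨s, hs, -⟩ := h1 b h
  exact ⟨s, hs⟩

/-- Naturality on sections. -/
theorem app_map {F G : Sheaf J AddCommGrpCat.{w}} (α : F ⟶ G) {U V : C} (f : V ⟶ U)
    (s : F.obj.obj (op U)) :
    α.hom.app _ (F.obj.map f.op s) = G.obj.map f.op (α.hom.app _ s) :=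
  ConcreteCategory.congr_hom (α.hom.naturality f.op) s

/-- Composition on sections. -/
theorem comp_app {F G H : Sheaf J AddCommGrpCat.{w}} (α : F ⟶ G) (β : G ⟶ H) {U : C}
    (s : F.obj.obj (op U)) :
    (α ≫ β).hom.app _ s = β.hom.app _ (α.hom.app _ s) := rfl

end Sections

variable [HasSheafify J AddCommGrpCat.{max w v}]

/-- Left exactness on sections. -/
theorem exists_of_app_eq_zero {S : ShortComplex (Sheaf J AddCommGrpCat.{max w v})}
    (hS : S.ShortExact) {U : C} (b : S.X₂.obj.obj (op U)) (hb : S.g.hom.app _ b = 0) :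
    ∃ c : S.X₁.obj.obj (op U), S.f.hom.app _ c = b := by
  have := hS.mono_f
  have h1 : (isGen_gen.{w} (J := J) U).desc b ≫ S.g = 0 := by
    rw [(isGen_gen U).desc_comp, hb]
    apply (isGen_gen U).hom_ext
    rw [(isGen_gen U).desc_app]
    rfl
  refine ⟨(hS.exact.lift _ h1).hom.app _ (gen.{w} J U), ?_⟩
  rw [← comp_app, hS.exact.lift_f, (isGen_gen U).desc_app]

variable [HasExt.{w'} (Sheaf J AddCommGrpCat.{max w v})]

/-- The vanishing criterion. -/
theorem extClass_comp_eq_zero {S : ShortComplex (Sheaf J AddCommGrpCat.{max w v})}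
    (hS : S.ShortExact) {U : C} (g : Z.{w} J U ⟶ S.X₃)
    {F' : Sheaf J AddCommGrpCat.{max w v}} [EnoughInjectives (Sheaf J AddCommGrpCat.{max w v})]
    (α : S.X₁ ⟶ F') {ι : Type*} (V : ι → C) (f : ∀ i, V i ⟶ U) (hV : Sieve.ofArrows V f ∈ J U)
    (b : ∀ i, S.X₂.obj.obj (op (V i)))
    (hb : ∀ i, S.g.hom.app _ (b i) = S.X₃.obj.map (f i).op (g.hom.app (op U) (gen.{w} J U)))
    (h : ∀ (i j : ι) (W : C) (p : W ⟶ V i) (q : W ⟶ V j), p ≫ f i = q ≫ f j →
      ∀ c : S.X₁.obj.obj (op W),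
        S.f.hom.app _ c = S.X₂.obj.map p.op (b i) - S.X₂.obj.map q.op (b j) →
          α.hom.app _ c = 0) :
    ((Ext.mk₀ g).comp hS.extClass (zero_add 1)).comp (Ext.mk₀ α) (add_zero 1) = 0 := by
  have := hS.mono_f
  have := hS.epi_g
  let S' : ShortComplex (Sheaf J AddCommGrpCat.{max w v}) :=
    ShortComplex.mk (Injective.ι F') (Limits.cokernel.π (Injective.ι F'))
      (Limits.cokernel.condition _)
  have hS' : S'.ShortExact := { exact := ShortComplex.exact_cokernel _ }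
  let β : S.X₂ ⟶ S'.X₂ := Injective.factorThru (α ≫ Injective.ι F') S.f
  have hβ : S.f ≫ β = α ≫ S'.f := Injective.comp_factorThru _ _
  have hβ' : S.f ≫ (β ≫ S'.g) = 0 := by
    rw [← Category.assoc, hβ, Category.assoc, S'.zero, comp_zero]
  let γ : S.X₃ ⟶ S'.X₃ := hS.exact.desc (β ≫ S'.g) hβ'
  have hγ : S.g ≫ γ = β ≫ S'.g := hS.exact.g_desc _ _
  let φ : S ⟶ S' := { τ₁ := α, τ₂ := β, τ₃ := γ, comm₁₂ := hβ.symm, comm₂₃ := hγ.symm }
  have hnat := ShortComplex.ShortExact.extClass_naturality.{w'} hS hS' φ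
  -- the glued lift
  obtain ⟨s, hs⟩ : ∃ s : S'.X₂.obj.obj (op U), ∀ i, S'.X₂.obj.map (f i).op s = β.hom.app _ (b i) := by
    refine glue_family S'.X₂ V f hV (fun i => β.hom.app _ (b i)) fun i j W p q hpq => ?_
    rw [← app_map, ← app_map, ← sub_eq_zero, ← map_sub]
    obtain ⟨c, hc⟩ := exists_of_app_eq_zero hS (S.X₂.obj.map p.op (b i) - S.X₂.obj.map q.op (b j)) (by
      rw [map_sub, app_map, app_map, hb, hb, map_map, map_map, hpq, sub_self])
    rw [← hc, ← comp_app, hβ, comp_app, h i j W p q hpq c hc, map_zero]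
  have hs' : g ≫ γ = (isGen_gen.{w} (J := J) U).desc s ≫ S'.g := by
    rw [(isGen_gen U).desc_comp]
    apply (isGen_gen U).hom_ext
    rw [(isGen_gen U).desc_app]
    refine sep_family S'.X₃ V f hV _ _ fun i => ?_
    rw [← app_map S'.g, hs, ← comp_app, ← hγ, comp_app, comp_app, hb, app_map]
  rw [Ext.comp_assoc_of_third_deg_zero]
  have h1 : hS.extClass.comp (Ext.mk₀ α) (add_zero 1) =
      (Ext.mk₀ γ).comp hS'.extClass (zero_add 1) := hnat
  rw [h1, Ext.mk₀_comp_mk₀_assoc, hs', ← Ext.mk₀_comp_mk₀_assoc, hS'.comp_extClass, Ext.comp_zero]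

end Groth.Agent.Etdl.H771.Gluing
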